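import Mathlib.AlgebraicGeometry.AffineScheme
import Mathlib.Topology.Sheaves.SheafCondition.UniqueGluing

/-!
Sheaves on a scheme from presheaves on affine opens glueing along pairs of basic opens.
-/

set_option autoImplicit false
set_option linter.style.haveILetI false
set_option backward.isDefEq.respectTransparency false
set_option maxHeartbeats 1000000

universe u

open CategoryTheory TopologicalSpace Opposite AlgebraicGeometry

noncomputable section

namespace Groth.Agent.AffGlue

variable {X : Scheme.{u}}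

/-- the basic open of an affine open, as an affine open -/
abbrev bas (U : X.affineOpens) (f : Γ(X, (U : X.Opens))) : X.affineOpens :=
  ⟨X.basicOpen f, U.2.basicOpen f⟩

variable {F : (X.affineOpens)ᵒᵖ ⥤ Type u}

/-- restriction -/
abbrev res {U V : X.affineOpens} (h : V ≤ U) (s : F.obj (op U)) : F.obj (op V) :=
  F.map (homOfLE h).op s

theorem res_res {U V W : X.affineOpens} (h : V ≤ U) (h' : W ≤ V) (s : F.obj (op U)) :
    res h' (res h s) = res (h'.trans h) s := by
  simp only [res, ← types_comp_apply, ← F.map_comp, ← op_comp, homOfLE_comp]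

theorem res_self {U : X.affineOpens} (h : U ≤ U) (s : F.obj (op U)) : res h s = s := by
  simp [res]

variable (F) in
/-- glueing along pairs of basic opens -/
def PairGlue : Prop :=
  ∀ (U V W VW : X.affineOpens) (f g : Γ(X, (U : X.Opens))),
    (V : X.Opens) = X.basicOpen f → (W : X.Opens) = X.basicOpen g →
    (VW : X.Opens) = X.basicOpen (f * g) → (U : X.Opens) = (V : X.Opens) ⊔ (W : X.Opens) →
    ∀ (hV : V ≤ U) (hW : W ≤ U) (h1 : VW ≤ V) (h2 : VW ≤ W),
    Function.Injective (fun s : F.obj (op U) => (F.map (homOfLE hV).op s, F.map (homOfLE hW).op s)) ∧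
    Set.range (fun s : F.obj (op U) => (F.map (homOfLE hV).op s, F.map (homOfLE hW).op s)) =
      {p | F.map (homOfLE h1).op p.1 = F.map (homOfLE h2).op p.2}

/-- the trace of a basic open on a smaller affine open -/
theorem exists_trace {U W : X.affineOpens} (h : W ≤ U) (f : Γ(X, (U : X.Opens))) :
    ∃ g : Γ(X, (W : X.Opens)), X.basicOpen g = (W : X.Opens) ⊓ X.basicOpen f :=
  ⟨X.presheaf.map (homOfLE (show (W : X.Opens) ≤ (U : X.Opens) from h)).op f, Scheme.basicOpen_res _ _ _⟩

theorem finite_glue (hE : ∀ E : X.affineOpens, (E : X.Opens) = ⊥ → Nonempty (F.obj (op E)) ∧ Subsingleton (F.obj (op E)))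
    (hP : PairGlue F) (n : ℕ) : ∀ (U : X.affineOpens) (f : Fin n → Γ(X, (U : X.Opens))),
    ((U : X.Opens) ≤ ⨆ i, X.basicOpen (f i)) →
    (∀ s t : F.obj (op U), (∀ i, res (show bas U (f i) ≤ U from X.basicOpen_le _) s = res (X.basicOpen_le _) t) → s = t) ∧
    ∀ x : ∀ i, F.obj (op (bas U (f i))),
      (∀ i j (W : X.affineOpens) (hi : W ≤ bas U (f i)) (hj : W ≤ bas U (f j)), res hi (x i) = res hj (x j)) →
      ∃ s : F.obj (op U), ∀ i, res (show bas U (f i) ≤ U from X.basicOpen_le _) s = x i := by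
  induction n with
  | zero =>
    intro U f hU
    have h0 : (U : X.Opens) = ⊥ := le_bot_iff.1 (hU.trans (iSup_le fun i => i.elim0))
    obtain ⟨⟨s⟩, h⟩ := hE U h0
    exact ⟨fun s t _ => @Subsingleton.elim _ h s t, fun x _ => ⟨s, fun i => i.elim0⟩⟩
  | succ n ih =>
    intro U f hU
    have hspan : Ideal.span (Set.range f) = ⊤ := U.2.iSup_basicOpen_eq_self_iff.1 (le_antisymm
      (iSup_le fun r => X.basicOpen_le _) (hU.trans (iSup_le fun i => le_iSup_of_le ⟨f i, i, rfl⟩ le_rfl)))
    obtain ⟨a, ha⟩ := (Submodule.mem_span_range_iff_exists_fun _).1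
      (show (1 : Γ(X, (U : X.Opens))) ∈ Ideal.span (Set.range f) by rw [hspan]; trivial)
    rw [Fin.sum_univ_castSucc] at ha
    set h := ∑ i : Fin n, a i.castSucc • f i.castSucc with hh
    set fn := f (Fin.last n)
    -- the two pieces
    have hU2 : (U : X.Opens) = (bas U h : X.Opens) ⊔ (bas U fn : X.Opens) := by
      refine le_antisymm (fun p hp => ?_) (sup_le (X.basicOpen_le _) (X.basicOpen_le _))
      by_contra hc
      change ¬(p ∈ X.basicOpen h ⊔ X.basicOpen fn) at hc
      have h1 : p ∈ X.basicOpen (1 : Γ(X, (U : X.Opens))) := by rw [Scheme.basicOpen_of_isUnit _ isUnit_one]; exact hp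
      rw [← ha] at h1
      rcases X.basicOpen_add_le _ _ h1 with h2 | h2
      · exact hc (Or.inl h2)
      · rw [smul_eq_mul, Scheme.basicOpen_mul] at h2
        exact hc (Or.inr h2.2)
    let g : Fin n → Γ(X, (bas U h : X.Opens)) := fun i =>
      (exists_trace (show bas U h ≤ U from X.basicOpen_le _) (f i.castSucc)).choose
    have hg : ∀ i, X.basicOpen (g i) = X.basicOpen h ⊓ X.basicOpen (f i.castSucc) := fun i =>
      (exists_trace (show bas U h ≤ U from X.basicOpen_le _) (f i.castSucc)).choose_spec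
    have hcov : X.basicOpen h ≤ ⨆ i, X.basicOpen (g i) := fun p hp => by
      obtain ⟨i, hi⟩ : ∃ i : Fin n, p ∈ X.basicOpen (f i.castSucc) := by
        rw [hh] at hp
        have key : ∀ s : Finset (Fin n), p ∈ X.basicOpen (∑ i ∈ s, a i.castSucc • f i.castSucc) →
            ∃ i : Fin n, p ∈ X.basicOpen (f i.castSucc) := by
          intro s
          induction s using Finset.induction_on with
          | empty => intro h0; simp [Scheme.basicOpen_zero] at h0
          | insert i s his IH =>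
            intro h0
            rw [Finset.sum_insert his] at h0
            rcases X.basicOpen_add_le _ _ h0 with h2 | h2
            · rw [smul_eq_mul, Scheme.basicOpen_mul] at h2
              exact ⟨i, h2.2⟩
            · exact IH h2
        exact key _ hp
      exact Opens.mem_iSup.2 ⟨i, by rw [hg i]; exact ⟨hp, hi⟩⟩
    obtain ⟨hsep, hex⟩ := ih (bas U h) g hcov
    have hgle : ∀ i, bas (bas U h) (g i) ≤ bas U (f i.castSucc) := fun i => (hg i).le.trans inf_le_right
    let VW : X.affineOpens := bas U (h * fn)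
    have h1 : VW ≤ bas U h := (Scheme.basicOpen_mul X h fn).le.trans inf_le_left
    have h2 : VW ≤ bas U fn := (Scheme.basicOpen_mul X h fn).le.trans inf_le_right
    obtain ⟨hinj, hrange⟩ := hP U (bas U h) (bas U fn) VW h fn rfl rfl rfl hU2 (X.basicOpen_le _) (X.basicOpen_le _) h1 h2
    refine ⟨fun s t hst => hinj (Prod.ext ?_ (hst _)), fun x hx => ?_⟩
    · refine hsep _ _ fun i => ?_
      have := congrArg (res (hgle i)) (hst i.castSucc)
      simp only [res_res] at this
      change res (U := bas U h) _ (res (U := U) _ s) = res (U := bas U h) _ (res (U := U) _ t)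
      simpa only [res_res] using this
    · obtain ⟨y, hy⟩ := hex (fun i => res (hgle i) (x i.castSucc)) fun i j W hi hj => by
        rw [res_res, res_res]; exact hx _ _ W _ _
      let g' : Fin n → Γ(X, (VW : X.Opens)) := fun i => (exists_trace h1 (g i)).choose
      have hg' : ∀ i, X.basicOpen (g' i) = (VW : X.Opens) ⊓ X.basicOpen (g i) := fun i => (exists_trace h1 (g i)).choose_spec
      have hcov' : (VW : X.Opens) ≤ ⨆ i, X.basicOpen (g' i) := fun p hp => by
        obtain ⟨i, hi⟩ := Opens.mem_iSup.1 (hcov (h1 hp))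
        exact Opens.mem_iSup.2 ⟨i, by rw [hg' i]; exact ⟨hp, hi⟩⟩
      have hag : res h1 y = res h2 (x (Fin.last n)) := (ih VW g' hcov').1 _ _ fun i => by
        have hle : bas VW (g' i) ≤ bas (bas U h) (g i) := (hg' i).le.trans inf_le_right
        have := congrArg (res hle) (hy i)
        simp only [res_res] at this ⊢
        exact this.trans (hx _ _ _ _ _)
      obtain ⟨s, hs⟩ := (hrange.ge (show (y, x (Fin.last n)) ∈ _ from hag) :)
      obtain ⟨hs1, hs2⟩ := Prod.ext_iff.1 hs
      refine ⟨s, Fin.lastCases hs2 fun i => ?_⟩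
      -- glue on the remaining piece through separatedness
      let V := bas U (f i.castSucc)
      let ha' := (exists_trace (show V ≤ U from X.basicOpen_le _) h)
      let hb' := (exists_trace (show V ≤ U from X.basicOpen_le _) fn)
      have e1 := ha'.choose_spec
      have e2 := hb'.choose_spec
      refine (hP V (bas V ha'.choose) (bas V hb'.choose) (bas V (ha'.choose * hb'.choose)) _ _ rfl rfl rfl ?_
        (X.basicOpen_le _) (X.basicOpen_le _) ((Scheme.basicOpen_mul X _ _).le.trans inf_le_left)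
        ((Scheme.basicOpen_mul X _ _).le.trans inf_le_right)).1 (Prod.ext ?_ ?_)
      · refine le_antisymm (fun p hp => ?_) (sup_le (X.basicOpen_le _) (X.basicOpen_le _))
        rcases hU2.le ((X.basicOpen_le _) hp : p ∈ (U : X.Opens)) with h3 | h3
        · exact Or.inl (e1.ge ⟨hp, h3⟩)
        · exact Or.inr (e2.ge ⟨hp, h3⟩)
      · let hV' : bas V ha'.choose ≤ bas U h := e1.le.trans inf_le_right
        let w : Fin n → Γ(X, (bas V ha'.choose : X.Opens)) := fun j => (exists_trace hV' (g j)).choose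
        have hw : ∀ j, X.basicOpen (w j) = (bas V ha'.choose : X.Opens) ⊓ X.basicOpen (g j) := fun j =>
          (exists_trace hV' (g j)).choose_spec
        refine (ih (bas V ha'.choose) w (fun p hp => ?_)).1 _ _ fun j => ?_
        · obtain ⟨j, hj⟩ := Opens.mem_iSup.1 (hcov (hV' hp))
          exact Opens.mem_iSup.2 ⟨j, by rw [hw j]; exact ⟨hp, hj⟩⟩
        · have hle : bas (bas V ha'.choose) (w j) ≤ bas (bas U h) (g j) := (hw j).le.trans inf_le_right
          have hy' := congrArg (res hle) (hy j)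
          have hs1' := congrArg (res (show bas (bas V ha'.choose) (w j) ≤ bas U h from (X.basicOpen_le (w j)).trans hV')) hs1
          simp only [res_res] at hy' hs1' ⊢
          exact hs1'.trans (hy'.trans (hx _ _ _ _ _))
      · have hs2' := congrArg (res (show bas V hb'.choose ≤ bas U fn from e2.le.trans inf_le_right)) hs2
        simp only [res_res] at hs2' ⊢
        exact hs2'.trans (hx _ _ _ _ _)

theorem separated (hE : ∀ E : X.affineOpens, (E : X.Opens) = ⊥ → Nonempty (F.obj (op E)) ∧ Subsingleton (F.obj (op E)))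
    (hP : PairGlue F) (U : X.affineOpens) (s t : F.obj (op U))
    (h : ∀ p ∈ (U : X.Opens), ∃ (V : X.affineOpens) (hV : V ≤ U), p ∈ (V : X.Opens) ∧ res hV s = res hV t) :
    s = t := by
  classical
  choose V hV hp he using h
  have hb : ∀ p : (U : X.Opens), ∃ f : Γ(X, (U : X.Opens)), X.basicOpen f ≤ (V p.1 p.2 : X.Opens) ∧ p.1 ∈ X.basicOpen f :=
    fun p => U.2.exists_basicOpen_le ⟨p.1, hp p.1 p.2⟩ p.2
  choose f hf hfp using hb
  obtain ⟨S, hS⟩ := U.2.isCompact.elim_finite_subcover (fun p : (U : X.Opens) => (X.basicOpen (f p) : Set X))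
    (fun p => (X.basicOpen _).2) fun p hp => Set.mem_iUnion.2 ⟨⟨p, hp⟩, hfp _⟩
  refine (finite_glue hE hP S.card U (fun i => f (S.equivFin.symm i).1) fun p hp => ?_).1 s t fun i => ?_
  · obtain ⟨q, hq, hpq⟩ : ∃ q ∈ S, p ∈ X.basicOpen (f q) := by simpa using hS hp
    exact Opens.mem_iSup.2 ⟨S.equivFin ⟨q, hq⟩, by simpa using hpq⟩
  · have := congrArg (res (show bas U (f (S.equivFin.symm i).1) ≤ V _ _ from hf _)) (he _ (S.equivFin.symm i).1.2)
    simpa only [res_res] using this

/-- compatible families over the affine opens of an open -/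
def Sec (F : (X.affineOpens)ᵒᵖ ⥤ Type u) (U : X.Opens) : Type u :=
  {s : ∀ V : {V : X.affineOpens // (V : X.Opens) ≤ U}, F.obj (op V.1) //
    ∀ (V W : {V : X.affineOpens // (V : X.Opens) ≤ U}) (h : W.1 ≤ V.1), res h (s V) = s W}

/-- the extended presheaf -/
def extend (F : (X.affineOpens)ᵒᵖ ⥤ Type u) : TopCat.Presheaf (Type u) X.carrier where
  obj U := Sec F U.unop
  map {U U'} i := ↾fun s => ⟨fun V => s.1 ⟨V.1, V.2.trans i.unop.le⟩,
    fun V W h => s.2 ⟨V.1, V.2.trans i.unop.le⟩ ⟨W.1, W.2.trans i.unop.le⟩ h⟩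
  map_id _ := rfl
  map_comp _ _ := rfl

theorem isSheaf_extend (hE : ∀ E : X.affineOpens, (E : X.Opens) = ⊥ → Nonempty (F.obj (op E)) ∧ Subsingleton (F.obj (op E)))
    (hP : PairGlue F) : TopCat.Presheaf.IsSheaf (extend F) := by
  classical
  rw [TopCat.Presheaf.isSheaf_iff_isSheafUniqueGluing_types]
  intro ι U sf hsf
  have hc : ∀ (i j : ι) (W : X.affineOpens) (hi : (W : X.Opens) ≤ U i) (hj : (W : X.Opens) ≤ U j),
      (sf i : Sec F (U i)).1 ⟨W, hi⟩ = (sf j : Sec F (U j)).1 ⟨W, hj⟩ := fun i j W hi hj =>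
    congrFun (congrArg Subtype.val (hsf i j)) ⟨W, le_inf hi hj⟩
  have hloc : ∀ V : {V : X.affineOpens // (V : X.Opens) ≤ iSup U}, ∃! t : F.obj (op V.1),
      ∀ (i : ι) (W : X.affineOpens) (h : W ≤ V.1) (hi : (W : X.Opens) ≤ U i), res h t = (sf i : Sec F (U i)).1 ⟨W, hi⟩ := by
    intro V
    have hb : ∀ p : (V.1 : X.Opens), ∃ (f : Γ(X, (V.1 : X.Opens))) (i : ι), X.basicOpen f ≤ U i ∧ p.1 ∈ X.basicOpen f := by
      intro p
      obtain ⟨i, hi⟩ := Opens.mem_iSup.1 (V.2 p.2)
      obtain ⟨f, hf, hfp⟩ := V.1.2.exists_basicOpen_le ⟨p.1, hi⟩ p.2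
      exact ⟨f, i, hf, hfp⟩
    choose f idx hf hfp using hb
    obtain ⟨S, hS⟩ := V.1.2.isCompact.elim_finite_subcover (fun p : (V.1 : X.Opens) => (X.basicOpen (f p) : Set X))
      (fun p => (X.basicOpen _).2) fun p hp => Set.mem_iUnion.2 ⟨⟨p, hp⟩, hfp _⟩
    obtain ⟨hsep, hex⟩ := finite_glue hE hP S.card V.1 (fun i => f (S.equivFin.symm i).1) fun p hp => by
      obtain ⟨q, hq, hpq⟩ : ∃ q ∈ S, p ∈ X.basicOpen (f q) := by simpa using hS hp
      exact Opens.mem_iSup.2 ⟨S.equivFin ⟨q, hq⟩, by simpa using hpq⟩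
    obtain ⟨t, ht⟩ := hex (fun i => (sf (idx (S.equivFin.symm i).1) : Sec F _).1 ⟨_, hf _⟩) fun i j W hi hj => by
      rw [(sf _ : Sec F _).2 ⟨_, hf _⟩ ⟨W, (show (W : X.Opens) ≤ _ from hi).trans (hf _)⟩ hi,
        (sf _ : Sec F _).2 ⟨_, hf _⟩ ⟨W, (show (W : X.Opens) ≤ _ from hj).trans (hf _)⟩ hj]
      exact hc _ _ _ _ _
    refine ⟨t, fun i W h hi => ?_, fun t' ht' => ?_⟩
    · refine separated hE hP W _ _ fun p hp => ?_
      obtain ⟨q, hq, hpq⟩ : ∃ q ∈ S, p ∈ X.basicOpen (f q) := by simpa using hS (h hp)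
      obtain ⟨j, rfl⟩ : ∃ j, (S.equivFin.symm j).1 = q := ⟨S.equivFin ⟨q, hq⟩, by simp⟩
      obtain ⟨k, hk⟩ := exists_trace h (f (S.equivFin.symm j).1)
      have hle : bas W k ≤ bas V.1 (f (S.equivFin.symm j).1) := hk.le.trans inf_le_right
      refine ⟨bas W k, X.basicOpen_le _, hk.ge ⟨hp, hpq⟩, ?_⟩
      have := congrArg (res hle) (ht j)
      simp only [res_res] at this
      rw [(sf _ : Sec F _).2 ⟨_, hf _⟩ ⟨bas W k, (show X.basicOpen k ≤ _ from hle).trans (hf _)⟩ hle] at this
      rw [res_res, (sf i : Sec F _).2 ⟨W, hi⟩ ⟨bas W k, (X.basicOpen_le k).trans hi⟩ (X.basicOpen_le k)]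
      exact this.trans (hc _ _ _ _ _)
    · exact hsep _ _ fun i => (ht' _ _ _ (hf _)).trans (ht i).symm
  choose t ht huniq using fun V => (hloc V)
  refine ⟨⟨t, fun V W h => huniq W _ fun i W' h' hi => by rw [res_res]; exact ht V i W' _ hi⟩, fun i => ?_, fun s hs => ?_⟩
  · refine Subtype.ext (funext fun W => ?_)
    have := ht ⟨W.1, W.2.trans (le_iSup U i)⟩ i W.1 le_rfl W.2
    rw [res_self] at this
    exact this
  · refine Subtype.ext (funext fun V => huniq V _ fun i W h hi => ?_)
    have := congrFun (congrArg Subtype.val (hs i)) ⟨W, hi⟩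
    exact ((s : Sec F (iSup U)).2 V ⟨W, (show (W : X.Opens) ≤ _ from h).trans V.2⟩ h).trans this

theorem exists_sheaf (hE : ∀ E : X.affineOpens, (E : X.Opens) = ⊥ → Nonempty (F.obj (op E)) ∧ Subsingleton (F.obj (op E)))
    (hP : PairGlue F) : ∃ G : TopCat.Sheaf (Type u) X.carrier,
    Nonempty ((Monotone.functor (f := fun U : X.affineOpens => (U : X.Opens)) (fun _ _ h => h)).op ⋙ G.1 ≅ F) := by
  refine ⟨⟨extend F, isSheaf_extend hE hP⟩, ⟨NatIso.ofComponents (fun U => Equiv.toIso
    { toFun := fun s => (s : Sec F (U.unop : X.Opens)).1 ⟨U.unop, le_rfl⟩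
      invFun := fun x => ⟨fun V => res V.2 x, fun V W h => res_res _ _ _⟩
      left_inv := fun s => Subtype.ext (funext fun V => (s : Sec F (U.unop : X.Opens)).2 ⟨U.unop, le_rfl⟩ V V.2)
      right_inv := fun x => res_self _ x }) fun {U U'} i => ?_⟩⟩
  ext s
  exact ((s : Sec F (U.unop : X.Opens)).2 ⟨U.unop, le_rfl⟩ ⟨U'.unop, i.unop.le⟩ i.unop.le).symm

theorem of_sheaf (G : TopCat.Sheaf (Type u) X.carrier)
    (e : (Monotone.functor (f := fun U : X.affineOpens => (U : X.Opens)) (fun _ _ h => h)).op ⋙ G.1 ≅ F) :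
    (∀ E : X.affineOpens, (E : X.Opens) = ⊥ → Nonempty (F.obj (op E)) ∧ Subsingleton (F.obj (op E))) ∧ PairGlue F := by
  let φ : ∀ U : X.affineOpens, ToType (G.1.obj (op (U : X.Opens))) → F.obj (op U) := fun U => e.hom.app (op U)
  have hφ : ∀ U, Function.Bijective (φ U) := fun U => (e.app (op U)).toEquiv.bijective
  have hnat : ∀ (U V : X.affineOpens) (h : V ≤ U) (s : ToType (G.1.obj (op (U : X.Opens)))),
      res h (φ U s) = φ V (G.1.map (homOfLE (show (V : X.Opens) ≤ (U : X.Opens) from h)).op s) := fun U V h s =>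
    (ConcreteCategory.congr_hom (e.hom.naturality (homOfLE h).op) s).symm
  constructor
  · intro E hE
    obtain ⟨gl, -, hu⟩ := TopCat.Sheaf.existsUnique_gluing' G (fun i : PEmpty.{u + 1} => i.elim) (E : X.Opens)
      (fun i => i.elim) (by rw [hE]; exact bot_le) (fun i => i.elim) (fun i => i.elim)
    refine ⟨⟨φ E gl⟩, ⟨fun a b => ?_⟩⟩
    obtain ⟨a, rfl⟩ := (hφ E).2 a
    obtain ⟨b, rfl⟩ := (hφ E).2 b
    rw [hu a (fun i => i.elim), hu b (fun i => i.elim)]
  · intro U V W VW f g hVf hWg hVW hU hV hW h1 h2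
    let P : ULift.{u} Bool → X.Opens := fun b => cond b.down (V : X.Opens) (W : X.Opens)
    have iUV : ∀ b, P b ≤ (U : X.Opens) := fun b => by rcases b with ⟨_ | _⟩; exacts [hW, hV]
    have hcov : (U : X.Opens) ≤ iSup P := by rw [hU]; exact sup_le (le_iSup P ⟨true⟩) (le_iSup P ⟨false⟩)
    have hinf : (VW : X.Opens) = (V : X.Opens) ⊓ (W : X.Opens) := by rw [hVW, Scheme.basicOpen_mul, hVf, hWg]
    refine ⟨fun a b hab => ?_, Set.ext fun p => ⟨?_, fun hp => ?_⟩⟩
    · obtain ⟨a, rfl⟩ := (hφ U).2 a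
      obtain ⟨b, rfl⟩ := (hφ U).2 b
      obtain ⟨ha, hb⟩ := Prod.ext_iff.1 hab
      change res hV _ = res hV _ at ha
      change res hW _ = res hW _ at hb
      rw [hnat, hnat] at ha hb
      refine congrArg (φ U) (TopCat.Sheaf.eq_of_locally_eq' G P (U : X.Opens) (fun b => homOfLE (iUV b)) hcov a b ?_)
      rintro ⟨_ | _⟩
      · exact (hφ W).1 hb
      · exact (hφ V).1 ha
    · rintro ⟨s, rfl⟩
      exact (res_res hV h1 s).trans (res_res hW h2 s).symm
    · obtain ⟨x, y⟩ := p
      obtain ⟨a, rfl⟩ := (hφ V).2 x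
      obtain ⟨b, rfl⟩ := (hφ W).2 y
      change res h1 _ = res h2 _ at hp
      rw [hnat, hnat] at hp
      have hp' := (hφ VW).1 hp
      have mm : ∀ {A B C : X.Opens} (i : B ⟶ A) (j : C ⟶ B) (k : C ⟶ A) (x : ToType (G.1.obj (op A))),
          G.1.map j.op (G.1.map i.op x) = G.1.map k.op x := fun i j k x => by
        rw [← ConcreteCategory.comp_apply, ← G.1.map_comp, ← op_comp, Subsingleton.elim (j ≫ i) k]
      have hVW' : G.1.map (homOfLE (inf_le_left : (V : X.Opens) ⊓ (W : X.Opens) ≤ _)).op a =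
          G.1.map (homOfLE (inf_le_right : (V : X.Opens) ⊓ (W : X.Opens) ≤ _)).op b := by
        have := congrArg (G.1.map (homOfLE hinf.ge).op) hp'
        rwa [mm, mm] at this
      let sf : ∀ b', ToType (G.1.obj (op (P b'))) := fun b' => match b' with
        | ⟨true⟩ => a
        | ⟨false⟩ => b
      obtain ⟨s, hs, -⟩ := TopCat.Sheaf.existsUnique_gluing' G P (U : X.Opens) (fun b => homOfLE (iUV b)) hcov sf (by
        rintro ⟨_ | _⟩ ⟨_ | _⟩
        · rfl
        · have := congrArg (G.1.map (homOfLE (inf_comm (W : X.Opens) (V : X.Opens)).le).op) hVW'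
          rw [mm, mm] at this
          exact this.symm
        · exact hVW'
        · rfl)
      exact ⟨φ U s, Prod.ext ((hnat _ _ _ _).trans (congrArg (φ V) (hs ⟨true⟩)))
        ((hnat _ _ _ _).trans (congrArg (φ W) (hs ⟨false⟩)))⟩

end Groth.Agent.AffGlue
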